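import Cfsg.Agent.H712.LD.SFour
import Cfsg.Agent.H676.Deg.Val
import Cfsg.Agent.H954.DR.CentB
import Cfsg.Agent.BM.KHAll

/-!
# The values of the characters of the Baby Monster at elements of order 13 and 26 (helper712, S4910, LD-B5)
-/

set_option autoImplicit false
set_option maxRecDepth 100000

open Cfsg Subgroup

namespace Cfsg.Agent.H712.LD

open Cfsg.Agent.Characters.Core Cfsg.Agent.SmallSimple.ThetaSetup

universe u

/-- the values, for a group of the order of the Baby Monster -/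
theorem values13_of_card {L : Type u} [Group L] [Finite L] (hL : Nat.card L = Cfsg.Agent.H954.DR.CentB.NB) {x : L}
    (hx : orderOf x = 13) (hc : Nat.card (centralizer ({x} : Set L)) = 312) (K : Subgroup L)
    (hKc : K ≤ centralizer ({x} : Set L)) (hK24 : Nat.card K = 24) (e : K ≃* Equiv.Perm (Fin 4)) :
    ∃ z ∈ K, orderOf z = 2 ∧ Commute x z ∧ ∀ χ : IrrCharacter L, (χ : L → ℂ) x = 0 ∨
      ∃ ε : ℤ, (ε = 1 ∨ ε = -1) ∧
        (((χ : L → ℂ) x = ε ∧ (χ : L → ℂ) (x * z) = ε) ∨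
          ((χ : L → ℂ) x = (2 * ε : ℤ) ∧ (χ : L → ℂ) (x * z) = (2 * ε : ℤ)) ∨
            ((χ : L → ℂ) x = (3 * ε : ℤ) ∧ (χ : L → ℂ) (x * z) = (-ε : ℤ))) := by
  classical
  have hp : Fact (Nat.Prime 13) := ⟨by norm_num⟩
  have h13 : ¬ 13 ^ 2 ∣ Nat.card L := by rw [hL]; norm_num
  have hCx : centralizer ({x} : Set L) = centralizer (zpowers x : Set L) := by
    rw [zpowers_eq_closure, centralizer_closure]
  -- the Sylow subgroup
  have hidx : ¬ 13 ∣ (zpowers x).index := by
    intro h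
    apply h13
    rw [← (zpowers x).card_mul_index, Nat.card_zpowers, hx, pow_two]
    exact Nat.mul_dvd_mul_left 13 h
  have hpg : IsPGroup 13 (zpowers x) := IsPGroup.of_card (n := 1) (by rw [Nat.card_zpowers, hx, pow_one])
  let P : Sylow 13 L := hpg.toSylow hidx
  have hPx : (P : Subgroup L) = zpowers x := rfl
  have hP : Nat.card P = 13 := by
    show Nat.card (zpowers x) = 13
    rw [Nat.card_zpowers, hx]
  -- `C(P) = P × K`
  have hKP : K ≤ centralizer ((P : Subgroup L) : Set L) := by rw [hPx, ← hCx]; exact hKc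
  have hdisj : Disjoint (zpowers x) K := by
    apply Subgroup.disjoint_of_coprime_natCard
    rw [Nat.card_zpowers, hx, hK24]
    norm_num
  have hcov : ∀ g ∈ centralizer ((P : Subgroup L) : Set L), ∃ y ∈ (P : Subgroup L), ∃ k ∈ K, g = y * k := by
    have hmem : ∀ y : zpowers x × K, (y.1 : L) * y.2 ∈ centralizer ({x} : Set L) := fun y =>
      mul_mem (by
        obtain ⟨j, hj⟩ := mem_zpowers_iff.1 y.1.2
        rw [mem_centralizer_singleton_iff, ← hj]
        exact (Commute.zpow_left (Commute.refl x) j).eq) (hKc y.2.2)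
    let f : zpowers x × K → centralizer ({x} : Set L) := fun y => ⟨(y.1 : L) * y.2, hmem y⟩
    have hf : Function.Injective f := fun y y' h =>
      Subgroup.mul_injective_of_disjoint hdisj (congrArg Subtype.val h)
    have hcardf : Nat.card (zpowers x × K) = Nat.card (centralizer ({x} : Set L)) := by
      rw [Nat.card_prod, Nat.card_zpowers, hx, hK24, hc]
    have hfb : Function.Bijective f := (Nat.bijective_iff_injective_and_card f).2 ⟨hf, hcardf⟩
    intro g hg
    rw [hPx, ← hCx] at hg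
    obtain ⟨y, hy⟩ := hfb.2 ⟨g, hg⟩
    exact ⟨y.1, y.1.2, y.2, y.2.2, (congrArg Subtype.val hy).symm⟩
  have hcomp : IsComp 13 (P : Subgroup L) K := Cfsg.Agent.H676.Deg.isComp_of hP hKP (by rw [hK24]; norm_num) hcov
  -- the inertial index
  have he : (centralizer ((P : Subgroup L) : Set L)).relIndex (normalizer ((P : Subgroup L) : Set L)) = 13 - 1 := by
    obtain ⟨f, hf, h1, h2⟩ := Cfsg.Agent.H954.DR.CentB.arith hp.out h13 hx
    have h3 := Subgroup.relIndex_mul_relIndex ⊥ (centralizer (zpowers x : Set L)) (normalizer (zpowers x : Set L)) bot_le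
      (centralizer_le_normalizer _)
    rw [relIndex_bot_left, relIndex_bot_left, ← hCx, ← h1] at h3
    have h4 := Nat.eq_of_mul_eq_mul_left Nat.card_pos h3
    rw [hPx, ← hCx, h4]
    rw [hc, hL] at h2
    have h5 : f ∣ 12 := hf
    have h6 : f ≤ 12 := Nat.le_of_dvd (by norm_num) h5
    interval_cases f <;> first | rfl | (exfalso; revert h2; norm_num)
  -- the normalizer acts by inner automorphisms
  have hI : Cfsg.Agent.H676.Deg.Inn P K := by
    intro n hn
    have hnK : ∀ k, k ∈ K ↔ n * k * n⁻¹ ∈ K := by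
      intro k
      rw [hcomp, hcomp]
      have h1 : orderOf (n * k * n⁻¹) = orderOf k := (MulAut.conj n).orderOf_eq k
      have h2 : ∀ y : L, y ∈ (P : Subgroup L) ↔ n * y * n⁻¹ ∈ (P : Subgroup L) := mem_normalizer_iff.1 hn
      rw [h1]
      refine and_congr_left fun _ => ?_
      rw [mem_centralizer_iff, mem_centralizer_iff]
      constructor
      · intro h y hy
        have h3 : n⁻¹ * y * n ∈ (P : Subgroup L) := (h2 _).2 (by
          have h4 : n * (n⁻¹ * y * n) * n⁻¹ = y := by group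
          rw [h4]; exact hy)
        have h4 := h _ h3
        calc y * (n * k * n⁻¹) = n * ((n⁻¹ * y * n) * k) * n⁻¹ := by group
          _ = n * (k * (n⁻¹ * y * n)) * n⁻¹ := by rw [h4]
          _ = n * k * n⁻¹ * y := by group
      · intro h y hy
        have h3 := h _ ((h2 y).1 hy)
        calc y * k = n⁻¹ * ((n * y * n⁻¹) * (n * k * n⁻¹)) * n := by group
          _ = n⁻¹ * ((n * k * n⁻¹) * (n * y * n⁻¹)) * n := by rw [h3]
          _ = k * y := by group
    let θ : K ≃* K :=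
      { toFun := fun k => ⟨n * k * n⁻¹, (hnK k).1 k.2⟩
        invFun := fun k => ⟨n⁻¹ * k * n, (hnK _).2 (by
          have h1 : n * (n⁻¹ * (k : L) * n) * n⁻¹ = k := by group
          rw [h1]; exact k.2)⟩
        left_inv := fun k => Subtype.ext (by simp [mul_assoc])
        right_inv := fun k => Subtype.ext (by simp [mul_assoc])
        map_mul' := fun k l => Subtype.ext (by simp [mul_assoc]) }
    obtain ⟨σ, hσ⟩ := inner_S4 ((e.symm.trans θ).trans e)
    refine ⟨e.symm σ, (e.symm σ).2, fun k hk => ?_⟩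
    have h1 := hσ (e ⟨k, hk⟩)
    have h2 : ((e.symm.trans θ).trans e) (e ⟨k, hk⟩) = e (θ ⟨k, hk⟩) := by simp
    rw [h2] at h1
    have h3 : θ ⟨k, hk⟩ = e.symm σ * ⟨k, hk⟩ * (e.symm σ)⁻¹ := by
      apply e.injective
      rw [h1]
      simp
    exact congrArg Subtype.val h3
  -- the values
  let z : K := e.symm (Equiv.swap 0 1 * Equiv.swap 2 3)
  have hz2 : orderOf ((z : K) : L) = 2 := by
    rw [Subgroup.orderOf_coe, MulEquiv.orderOf_eq]
    exact orderOf_eq_prime (by decide +kernel) (by decide +kernel)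
  have hzc : Commute x (z : L) := mem_centralizer_iff.1 (hKc z.2) x rfl
  have hxP : x ∈ (P : Subgroup L) := mem_zpowers x
  have hx1 : x ≠ 1 := by
    rintro rfl
    rw [orderOf_one] at hx
    norm_num at hx
  refine ⟨z, z.2, hz2, hzc, fun χ => ?_⟩
  rcases Cfsg.Agent.H676.Deg.val hcomp hP he hI χ with ⟨h1, -⟩ | ⟨φ, δ, hδ, h1, -⟩
  · left
    exact h1 x (by rw [hx])
  · right
    have h2 : (χ : L → ℂ) x = δ * (φ : K → ℂ) 1 := by
      have := h1 ⟨x, hxP⟩ (fun h => hx1 (congrArg Subtype.val h)) 1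
      rwa [Subgroup.coe_one, mul_one] at this
    have h3 : (χ : L → ℂ) (x * z) = δ * (φ : K → ℂ) z := h1 ⟨x, hxP⟩ (fun h => hx1 (congrArg Subtype.val h)) z
    have h4 := values_S4 (isIrr_comp e.symm.toMonoidHom e.symm.surjective φ.2)
    have e1 : ((φ : K → ℂ) ∘ e.symm.toMonoidHom) 1 = (φ : K → ℂ) 1 := by
      rw [Function.comp_apply, map_one]
    have e2 : ((φ : K → ℂ) ∘ e.symm.toMonoidHom) (Equiv.swap 0 1 * Equiv.swap 2 3) = (φ : K → ℂ) z := rfl
    rw [e1, e2] at h4
    refine ⟨δ, hδ, ?_⟩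
    rw [h2, h3]
    rcases h4 with ⟨h5, h6⟩ | ⟨h5, h6⟩ | ⟨h5, h6⟩
    · left
      rw [h5, h6]
      simp
    · right; left
      rw [h5, h6]
      push_cast
      exact ⟨by ring, by ring⟩
    · right; right
      rw [h5, h6]
      push_cast
      exact ⟨by ring, by ring⟩

/-- **LD-B5.** -/
theorem values13 {L : Type u} [Group L] [Finite L] (h : Spor.IsoB L) {x : L} (hx : orderOf x = 13)
    (hs : Nat.card (centralizer ({x} : Set L)) = 312 ∧
      ∃ K : Subgroup L, K ≤ centralizer ({x} : Set L) ∧ Nat.card K = 24 ∧ Nonempty (K ≃* Equiv.Perm (Fin 4))) :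
    ∃ z : L, orderOf z = 2 ∧ Commute x z ∧ ∀ χ : IrrCharacter L, (χ : L → ℂ) x = 0 ∨
      ∃ ε : ℤ, (ε = 1 ∨ ε = -1) ∧
        (((χ : L → ℂ) x = ε ∧ (χ : L → ℂ) (x * z) = ε) ∨
          ((χ : L → ℂ) x = (2 * ε : ℤ) ∧ (χ : L → ℂ) (x * z) = (2 * ε : ℤ)) ∨
            ((χ : L → ℂ) x = (3 * ε : ℤ) ∧ (χ : L → ℂ) (x * z) = (-ε : ℤ))) := by
  obtain ⟨h1, K, h2, h3, ⟨e⟩⟩ := hs
  have hL : Nat.card L = 4154781481226426191177580544000000 := by
    obtain ⟨f⟩ := h
    rw [Nat.card_congr f.toEquiv, Cfsg.Agent.BM.KHAll.card_B]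
  obtain ⟨z, -, h4, h5, h6⟩ := values13_of_card hL hx h1 K h2 h3 e
  exact ⟨z, h4, h5, h6⟩

end Cfsg.Agent.H712.LD
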