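import Mathlib
import Cfsg.Agent.OddOrderCharacters.InducedSum
import Cfsg.Agent.Characters.Counting
import Cfsg.Agent.Characters.GaloisBasic

/-!
# The symmetric group of degree four: automorphisms and characters (helper712, S4910)
-/

set_option autoImplicit false

open scoped ComplexConjugate
open Cfsg Equiv

namespace Cfsg.Agent.H712.LD

open Cfsg.Agent.Characters.Core

/-- the four-group -/
def V4 : Subgroup (Perm (Fin 4)) where
  carrier := {x | x = 1 ∨ x = swap 0 1 * swap 2 3 ∨ x = swap 0 2 * swap 1 3 ∨ x = swap 0 3 * swap 1 2}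
  one_mem' := Or.inl rfl
  mul_mem' := by
    rintro a b (rfl | rfl | rfl | rfl) (rfl | rfl | rfl | rfl) <;> simp only [Set.mem_ofPred_eq] <;> decide +kernel
  inv_mem' := by
    rintro a (rfl | rfl | rfl | rfl) <;> simp only [Set.mem_ofPred_eq] <;> decide +kernel

theorem mem_V4 {x : Perm (Fin 4)} :
    x ∈ V4 ↔ x = 1 ∨ x = swap 0 1 * swap 2 3 ∨ x = swap 0 2 * swap 1 3 ∨ x = swap 0 3 * swap 1 2 := Iff.rfl

instance normal_V4 : V4.Normal := by
  refine ⟨fun x hx g => ?_⟩
  rw [mem_V4] at hx ⊢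
  revert g x
  decide +kernel

theorem key_pairs : ∀ a b : Perm (Fin 4), (a * a * (a * a) = 1 ∧ a * a ≠ 1 ∧ b * b = 1 ∧ b ≠ 1 ∧
    a * b * (a * b) * (a * b) = 1 ∧ a * b ≠ 1) →
      ∃ σ : Perm (Fin 4), σ * finRotate 4 = a * σ ∧ σ * swap 0 1 = b * σ := by
  decide +kernel

/-- **Automorphisms of the symmetric group of degree four are inner.** -/
theorem inner_S4 (θ : Perm (Fin 4) ≃* Perm (Fin 4)) : ∃ σ : Perm (Fin 4), ∀ g, θ g = σ * g * σ⁻¹ := by
  have hinj : ∀ x : Perm (Fin 4), x ≠ 1 → θ x ≠ 1 := fun x hx h => hx (θ.injective (by rw [h, map_one]))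
  have e1 : finRotate 4 * finRotate 4 * (finRotate 4 * finRotate 4) = (1 : Perm (Fin 4)) := by decide +kernel
  have e2 : finRotate 4 * finRotate 4 ≠ (1 : Perm (Fin 4)) := by decide +kernel
  have e3 : swap 0 1 * swap 0 1 = (1 : Perm (Fin 4)) := by decide +kernel
  have e4 : swap 0 1 ≠ (1 : Perm (Fin 4)) := by decide +kernel
  have e5 : finRotate 4 * swap 0 1 * (finRotate 4 * swap 0 1) * (finRotate 4 * swap 0 1) = (1 : Perm (Fin 4)) := by
    decide +kernel
  have e6 : finRotate 4 * swap 0 1 ≠ (1 : Perm (Fin 4)) := by decide +kernel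
  have h1 : θ (finRotate 4) * θ (finRotate 4) * (θ (finRotate 4) * θ (finRotate 4)) = 1 := by
    rw [← map_mul, ← map_mul, e1, map_one]
  have h2 : θ (finRotate 4) * θ (finRotate 4) ≠ 1 := by
    rw [← map_mul]
    exact hinj _ e2
  have h3 : θ (swap 0 1) * θ (swap 0 1) = 1 := by
    rw [← map_mul, e3, map_one]
  have h4 : θ (swap 0 1) ≠ 1 := hinj _ e4
  have h5 : θ (finRotate 4) * θ (swap 0 1) * (θ (finRotate 4) * θ (swap 0 1)) * (θ (finRotate 4) * θ (swap 0 1)) = 1 := by
    rw [← map_mul, ← map_mul, ← map_mul, e5, map_one]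
  have h6 : θ (finRotate 4) * θ (swap 0 1) ≠ 1 := by
    rw [← map_mul]
    exact hinj _ e6
  obtain ⟨σ, hσ1, hσ2⟩ := key_pairs _ _ ⟨h1, h2, h3, h4, h5, h6⟩
  refine ⟨σ, fun g => ?_⟩
  have hcl : Subgroup.closure {finRotate 4, swap (0 : Fin 4) 1} = ⊤ :=
    Equiv.Perm.closure_cycle_adjacent_swap (isCycle_finRotate) (support_finRotate) 0
  have h7 : θ.toMonoidHom = (MulAut.conj σ).toMonoidHom := by
    refine MonoidHom.eq_of_eqOn_dense hcl ?_
    rintro x (rfl | hx)
    · show θ _ = σ * _ * σ⁻¹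
      rw [hσ1]; group
    · rw [Set.mem_singleton_iff] at hx
      subst hx
      show θ _ = σ * _ * σ⁻¹
      rw [hσ2]; group
  exact congrFun (congrArg DFunLike.coe h7) g

/-- **Values of the irreducible characters at the identity and at a double transposition.** -/
theorem values_S4 {φ : Perm (Fin 4) → ℂ} (hφ : IsIrrCharacter (Perm (Fin 4)) φ) :
    (φ 1 = 1 ∧ φ (swap 0 1 * swap 2 3) = 1) ∨ (φ 1 = 2 ∧ φ (swap 0 1 * swap 2 3) = 2) ∨
      (φ 1 = 3 ∧ φ (swap 0 1 * swap 2 3) = -1) := by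
  classical
  have : Finite (IrrCharacter (Perm (Fin 4))) := finite_irr
  have := Fintype.ofFinite (IrrCharacter (Perm (Fin 4)))
  have hcl := isIrr_isClassFunction hφ
  obtain ⟨m, hm, hm1⟩ := isIrr_apply_one hφ
  have hcard : Nat.card (Perm (Fin 4)) = 24 := by
    rw [Nat.card_eq_fintype_card, Fintype.card_perm, Fintype.card_fin]
    rfl
  choose d hd using fun χ : IrrCharacter (Perm (Fin 4)) => isCharacter_apply_one (isIrr_isCharacter χ.2)
  let φ' : IrrCharacter (Perm (Fin 4)) := ⟨φ, hφ⟩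
  have hdφ : d φ' = m := by
    have h1 : (d φ' : ℂ) = m := by rw [← hd, ← hm1]
    exact_mod_cast h1
  rcases Cfsg.Agent.OddOrderCharacters.InducedSum.ker_or_sum_eq_zero hφ V4
    ({1, swap 0 1 * swap 2 3, swap 0 2 * swap 1 3, swap 0 3 * swap 1 2} : Finset (Perm (Fin 4)))
    (fun x => by simp [mem_V4]) with h | h
  · -- `V4` in the kernel
    have h1 := Cfsg.Agent.OddOrderCharacters.InducedSum.sum_above V4 1
    have hV : Nat.card V4 = 4 := by
      have e1 : (V4 : Set (Perm (Fin 4))) =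
          (({1, swap 0 1 * swap 2 3, swap 0 2 * swap 1 3, swap 0 3 * swap 1 2} : Finset (Perm (Fin 4))) : Set _) := by
        ext x
        simp [mem_V4]
      rw [← SetLike.coe_sort_coe, Nat.card_coe_set_eq, e1, Set.ncard_coe_finset]
      decide +kernel
    have hidx : V4.index = 6 := by
      have h2 := V4.card_mul_index
      rw [hV, hcard] at h2
      omega
    have h2 : ∑ χ : IrrCharacter (Perm (Fin 4)), (if ∀ a ∈ V4, χ.1 a = χ.1 1 then d χ * d χ else 0) = 6 := by
      have h3 : ((∑ χ : IrrCharacter (Perm (Fin 4)), (if ∀ a ∈ V4, χ.1 a = χ.1 1 then d χ * d χ else 0) : ℕ) : ℂ) = 6 := by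
        rw [if_pos (one_mem _), hidx] at h1
        push_cast
        rw [show (6 : ℂ) = ((6 : ℕ) : ℂ) by norm_num, ← h1]
        refine Finset.sum_congr rfl fun χ _ => ?_
        split_ifs with h4
        · rw [hd]
        · rfl
      exact_mod_cast h3
    have h3 : d φ' * d φ' ≤ 6 := by
      rw [← h2]
      refine le_trans (le_of_eq ?_) (Finset.single_le_sum (f := fun χ : IrrCharacter (Perm (Fin 4)) =>
        (if ∀ a ∈ V4, χ.1 a = χ.1 1 then d χ * d χ else 0)) (fun _ _ => Nat.zero_le _) (Finset.mem_univ φ'))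
      exact (if_pos h).symm
    rw [hdφ] at h3
    have h4 : m ≤ 2 := by nlinarith
    have h5 := h _ (mem_V4.2 (Or.inr (Or.inl rfl)))
    interval_cases m
    · left
      rw [h5, hm1]
      norm_num
    · right; left
      rw [h5, hm1]
      norm_num
  · right; right
    have c2 : φ (swap 0 2 * swap 1 3) = φ (swap 0 1 * swap 2 3) := by
      have h1 := hcl (swap 0 1 * swap 2 3) (swap 1 2)
      rwa [show swap 1 2 * (swap 0 1 * swap 2 3) * (swap 1 2)⁻¹ = (swap 0 2 * swap 1 3 : Perm (Fin 4)) by decide +kernel] at h1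
    have c3 : φ (swap 0 3 * swap 1 2) = φ (swap 0 1 * swap 2 3) := by
      have h1 := hcl (swap 0 1 * swap 2 3) (swap 1 3)
      rwa [show swap 1 3 * (swap 0 1 * swap 2 3) * (swap 1 3)⁻¹ = (swap 0 3 * swap 1 2 : Perm (Fin 4)) by decide +kernel] at h1
    rw [Finset.sum_insert (by decide +kernel), Finset.sum_insert (by decide +kernel),
      Finset.sum_insert (by decide +kernel), Finset.sum_singleton, c2, c3, hm1] at h
    have h1 : φ (swap 0 1 * swap 2 3) = ((-(m : ℚ) / 3 : ℚ) : ℂ) := by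
      push_cast
      linear_combination h / 3
    obtain ⟨z, hz⟩ := Cfsg.Agent.Characters.GaloisBasic.exists_int_of_rat (isIrr_isCharacter hφ) _ ⟨_, h1⟩
    have h2 : (m : ℤ) = -3 * z := by
      have h3 : (m : ℂ) = ((-3 * z : ℤ) : ℂ) := by
        rw [h1] at hz
        push_cast at hz ⊢
        linear_combination -3 * hz
      exact_mod_cast h3
    have h4 := Cfsg.Agent.Characters.Counting.sum_irr_one_mul (1 : Perm (Fin 4))
    rw [if_pos rfl, hcard] at h4
    have h5 : ∑ χ : IrrCharacter (Perm (Fin 4)), d χ * d χ = 24 := by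
      have h6 : ((∑ χ : IrrCharacter (Perm (Fin 4)), d χ * d χ : ℕ) : ℂ) = ((24 : ℕ) : ℂ) := by
        rw [← h4]
        push_cast
        exact Finset.sum_congr rfl fun χ _ => by rw [hd]
      exact_mod_cast h6
    have h6 : d φ' * d φ' ≤ 24 := by
      rw [← h5]
      exact Finset.single_le_sum (f := fun χ : IrrCharacter (Perm (Fin 4)) => d χ * d χ) (fun _ _ => Nat.zero_le _)
        (Finset.mem_univ φ')
    rw [hdφ] at h6
    have h7 : m ≤ 4 := by nlinarith
    have h8 : m = 3 := by omega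
    subst h8
    refine ⟨by rw [hm1]; norm_num, ?_⟩
    rw [h1]
    norm_num

end Cfsg.Agent.H712.LD
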