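import Cfsg.Agent.H712.LD.ValuesK
import Cfsg.Agent.H712.LD.SFourT
import Cfsg.Agent.H182.Bad.BSec
import Cfsg.Agent.H531.MB.SieveB

/-!
# The values at `1` and `2A` modulo 13 (helper712, (B,3) of S4884)
-/

set_option autoImplicit false
set_option maxRecDepth 100000

open Cfsg Subgroup

namespace Cfsg.Agent.H712.LD

open Cfsg.Agent.Characters.Core Cfsg.Agent.SmallSimple.ThetaSetup

universe u

/-- elements of order 2 of the symmetric group of degree 4 -/
theorem four_cases : ∀ σ : Equiv.Perm (Fin 4), σ * σ = 1 → σ ≠ 1 →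
    (∃ g : Equiv.Perm (Fin 4), g * Equiv.swap 0 1 * g⁻¹ = σ) ∨
      (∃ g : Equiv.Perm (Fin 4), g * (Equiv.swap 0 1 * Equiv.swap 2 3) * g⁻¹ = σ) := by
  decide +kernel

theorem card_all : (Finset.univ.filter fun σ : Equiv.Perm (Fin 4) => σ * σ = 1 ∧ σ ≠ 1).card = 9 := by
  decide +kernel

theorem card_dbl : (Finset.univ.filter fun σ : Equiv.Perm (Fin 4) =>
    ∃ g : Equiv.Perm (Fin 4), g * (Equiv.swap 0 1 * Equiv.swap 2 3) * g⁻¹ = σ).card = 3 := by
  decide +kernel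

/-- an invariant set of involutions with `6` elements modulo 13 contains the transpositions -/
theorem swap_mem {S : Set (Equiv.Perm (Fin 4))} (h1 : ∀ σ ∈ S, σ * σ = 1 ∧ σ ≠ 1)
    (h2 : ∀ g : Equiv.Perm (Fin 4), ∀ σ ∈ S, g * σ * g⁻¹ ∈ S) (h3 : S.ncard ≡ 6 [MOD 13]) : Equiv.swap 0 1 ∈ S := by
  classical
  by_contra hs
  have h4 : ∀ σ ∈ S, ∃ g : Equiv.Perm (Fin 4), g * (Equiv.swap 0 1 * Equiv.swap 2 3) * g⁻¹ = σ := by
    intro σ hσ
    rcases four_cases σ (h1 σ hσ).1 (h1 σ hσ).2 with ⟨g, hg⟩ | h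
    · exfalso
      apply hs
      have h5 := h2 g⁻¹ σ hσ
      rw [← hg] at h5
      have e1 : g⁻¹ * (g * Equiv.swap 0 1 * g⁻¹) * g⁻¹⁻¹ = Equiv.swap 0 1 := by group
      rwa [e1] at h5
    · exact h
  have h5 : S.ncard ≤ 3 := by
    rw [← card_dbl, ← Set.ncard_coe_finset]
    refine Set.ncard_le_ncard (fun σ hσ => ?_) (Finset.finite_toSet _)
    rw [Finset.mem_coe, Finset.mem_filter]
    exact ⟨Finset.mem_univ _, h4 σ hσ⟩
  unfold Nat.ModEq at h3
  omega

/-- **The transpositions of `C(x)` modulo 13.** -/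
theorem mod13_of_card {L : Type u} [Group L] [Finite L] (hL : Nat.card L = Cfsg.Agent.H954.DR.CentB.NB) {x : L}
    (hx : orderOf x = 13) (hc : Nat.card (centralizer ({x} : Set L)) = 312) (K : Subgroup L)
    (hKc : K ≤ centralizer ({x} : Set L)) (hK24 : Nat.card K = 24) (e : K ≃* Equiv.Perm (Fin 4)) {T : L}
    (hT : T * T = 1) (hT1 : T ≠ 1) (hTc : Nat.card {t : L // IsConj T t} = 13571955000) (χ : IrrCharacter L) {d a : ℤ}
    (hd : (χ : L → ℂ) 1 = d) (ha : (χ : L → ℂ) T = a) :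
    ∃ d' a' : ℤ, (13 : ℤ) ∣ d - d' ∧ (13 : ℤ) ∣ a - a' ∧ ((d' = 0 ∧ a' = 0) ∨
      ((d' = 1 ∨ d' = -1) ∧ (a' = 1 ∨ a' = -1)) ∨ ((d' = 2 ∨ d' = -2) ∧ a' = 0) ∨
      ((d' = 3 ∨ d' = -3) ∧ (a' = 1 ∨ a' = -1))) := by
  classical
  have hp : Fact (Nat.Prime 13) := ⟨by norm_num⟩
  obtain ⟨hK, hval⟩ := valuesK_of_card hL hx hc K hKc hK24 e
  have inv : ∀ t : L, IsConj T t → t * t = 1 ∧ t ≠ 1 := by
    intro t ht
    obtain ⟨g, hg⟩ := isConj_iff.1 ht
    constructor
    · rw [← hg]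
      calc g * T * g⁻¹ * (g * T * g⁻¹) = g * (T * T) * g⁻¹ := by group
        _ = 1 := by rw [hT]; group
    · rintro rfl
      apply hT1
      calc T = g⁻¹ * (g * T * g⁻¹) * g := by group
        _ = 1 := by rw [hg]; group
  -- the conjugates in `C(x)`
  have hmem : ∀ t : L, IsConj T t → Commute t x → t ∈ K := by
    intro t ht hc
    rw [hK]
    refine ⟨mem_centralizer_singleton_iff.2 hc.eq, ?_⟩
    obtain ⟨h1, h2⟩ := inv t ht
    rw [orderOf_eq_prime (by rw [pow_two]; exact h1) h2]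
    norm_num
  have hcount := H182.Bad.BSec.card_modEq hx {t : L | IsConj T t} (fun g t ht => IsConj.trans ht (isConj_iff.2 ⟨g, rfl⟩))
  have hcount' : Nat.card {t : L | IsConj T t} = 13571955000 := hTc
  rw [hcount'] at hcount
  let S : Set (Equiv.Perm (Fin 4)) := {σ | IsConj T ((e.symm σ : K) : L)}
  have hS : Nat.card {t : L // t ∈ {t : L | IsConj T t} ∧ Commute t x} = S.ncard := by
    rw [← Nat.card_coe_set_eq]
    refine Nat.card_congr
      { toFun := fun t => ⟨e ⟨t.1, hmem t.1 t.2.1 t.2.2⟩, ?_⟩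
        invFun := fun σ => ⟨((e.symm σ.1 : K) : L), σ.2, mem_centralizer_singleton_iff.1 (hKc (e.symm σ.1).2)⟩
        left_inv := fun t => Subtype.ext ?_
        right_inv := fun σ => Subtype.ext ?_ }
    · show IsConj T ((e.symm (e ⟨t.1, hmem t.1 t.2.1 t.2.2⟩) : K) : L)
      rw [e.symm_apply_apply]
      exact t.2.1
    · show ((e.symm (e ⟨t.1, hmem t.1 t.2.1 t.2.2⟩) : K) : L) = t.1
      rw [e.symm_apply_apply]
    · exact e.apply_symm_apply σ.1
  rw [hS] at hcount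
  have hsw : Equiv.swap 0 1 ∈ S := by
    refine swap_mem (fun σ hσ => ?_) (fun g σ hσ => ?_) ?_
    · obtain ⟨h1, h2⟩ := inv _ hσ
      constructor
      · have h3 : e.symm (σ * σ) = 1 := by
          rw [map_mul]
          exact Subtype.ext h1
        rw [← e.apply_symm_apply (σ * σ), h3, map_one]
      · rintro rfl
        apply h2
        rw [map_one]
        rfl
    · show IsConj T ((e.symm (g * σ * g⁻¹) : K) : L)
      rw [map_mul, map_mul, map_inv]
      exact IsConj.trans hσ (isConj_iff.2 ⟨((e.symm g : K) : L), rfl⟩)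
    · refine hcount.symm.trans ?_
      decide
  -- `T' = e⁻¹ (0 1)`
  set T' : K := e.symm (Equiv.swap 0 1) with hT'
  have hTT : IsConj T (T' : L) := hsw
  have hTx : Commute (T' : L) x := mem_centralizer_singleton_iff.1 (hKc T'.2)
  have haT : (χ : L → ℂ) (T' : L) = a := by
    obtain ⟨g, hg⟩ := isConj_iff.1 hTT
    rw [← hg, ← ha]
    exact isIrr_isClassFunction χ.2 T g
  -- congruences
  obtain ⟨M, hM⟩ := Blocks.ExistsModular.exists_isPModular hp.out
  have cong : ∀ (k : K) (c v : ℤ), ¬ 13 ∣ orderOf (k : L) → (χ : L → ℂ) k = c → (χ : L → ℂ) (x * k) = v →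
      (13 : ℤ) ∣ c - v := by
    intro k c v hk hc hv
    have hkx : Commute (k : L) x := mem_centralizer_singleton_iff.1 (hKc k.2)
    have h2 := Cfsg.Agent.CharactersDeep.ModCongr.memLocalIdeal_character_sub hM χ.2 (x * k) x
      ⟨k, rfl, hkx.symm, ⟨1, by rw [hx, pow_one]⟩, hk⟩
    rw [inv_mul_cancel_left, hv, hc] at h2
    have h4 : (v : ℂ) - (c : ℂ) = ((v - c : ℤ) : ℂ) := by push_cast; ring
    rw [h4] at h2
    have h5 := (Blocks.Local.memLocalIdeal_intCast_iff hM _).1 h2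
    have h6 : (13 : ℤ) ∣ v - c := by exact_mod_cast h5
    rw [← Int.dvd_neg]
    convert h6 using 1
    ring
  have h13T : ¬ 13 ∣ orderOf (T' : L) := by
    obtain ⟨h1, h2⟩ := inv _ hTT
    rw [orderOf_eq_prime (by rw [pow_two]; exact h1) h2]
    norm_num
  have h131 : ¬ 13 ∣ orderOf ((1 : K) : L) := by
    rw [Subgroup.coe_one, orderOf_one]
    norm_num
  rcases hval χ with ⟨h0, h1, -⟩ | ⟨φ, δ, hφ, hδ, h1⟩
  · refine ⟨0, 0, ?_, ?_, Or.inl ⟨rfl, rfl⟩⟩
    · refine cong 1 d 0 h131 (by rw [Subgroup.coe_one]; exact hd) ?_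
      rw [Subgroup.coe_one, mul_one, h0]
      simp
    · refine cong T' a 0 h13T haT ?_
      rw [h1 (x * T') ?_]
      · simp
      · obtain ⟨h2, h3⟩ := inv _ hTT
        have ho : orderOf (T' : L) = 2 := orderOf_eq_prime (by rw [pow_two]; exact h2) h3
        rw [hTx.symm.orderOf_mul_eq_mul_orderOf_of_coprime (by rw [hx, ho]; norm_num), hx, ho]
        norm_num
  · obtain ⟨b, hb, h2⟩ := values_S4_swap hφ
    have v1 : (χ : L → ℂ) (x * (1 : K)) = δ * φ 1 := by rw [h1 1, map_one]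
    have vT : (χ : L → ℂ) (x * (T' : K)) = ((δ * b : ℤ) : ℂ) := by
      rw [h1 T', hT', e.apply_symm_apply, hb]
      push_cast
      ring
    have cT := cong T' a (δ * b) h13T haT vT
    have c1 : ∀ n : ℤ, φ 1 = n → (13 : ℤ) ∣ d - δ * n := fun n hn =>
      cong 1 d (δ * n) h131 (by rw [Subgroup.coe_one]; exact hd) (by rw [v1, hn]; push_cast; ring)
    rcases h2 with ⟨h2, h3⟩ | ⟨h2, h3⟩ | ⟨h2, h3⟩
    · refine ⟨δ * 1, δ * b, c1 1 (by rw [h2]; norm_num), cT, Or.inr (Or.inl ⟨?_, ?_⟩)⟩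
      · rcases hδ with rfl | rfl <;> norm_num
      · rcases hδ with rfl | rfl <;> rcases h3 with rfl | rfl <;> norm_num
    · refine ⟨δ * 2, δ * b, c1 2 (by rw [h2]; norm_num), cT, Or.inr (Or.inr (Or.inl ⟨?_, ?_⟩))⟩
      · rcases hδ with rfl | rfl <;> norm_num
      · rw [h3, mul_zero]
    · refine ⟨δ * 3, δ * b, c1 3 (by rw [h2]; norm_num), cT, Or.inr (Or.inr (Or.inr ⟨?_, ?_⟩))⟩
      · rcases hδ with rfl | rfl <;> norm_num
      · rcases hδ with rfl | rfl <;> rcases h3 with rfl | rfl <;> norm_num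

end Cfsg.Agent.H712.LD
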