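import Cfsg.Agent.H712.LD.SFour
import Cfsg.Agent.H676.Deg.Val
import Cfsg.Agent.H954.DR.CentB

/-!
# The values of the characters of the Baby Monster at the elements `x k`, `x` of order 13 (helper712, (B,3) of S4884)
-/

set_option autoImplicit false
set_option maxRecDepth 100000

open Cfsg Subgroup

namespace Cfsg.Agent.H712.LD

open Cfsg.Agent.Characters.Core Cfsg.Agent.SmallSimple.ThetaSetup

universe u

/-- the values at `x k`, for all `k ∈ K` -/
theorem valuesK_of_card {L : Type u} [Group L] [Finite L] (hL : Nat.card L = Cfsg.Agent.H954.DR.CentB.NB) {x : L}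
    (hx : orderOf x = 13) (hc : Nat.card (centralizer ({x} : Set L)) = 312) (K : Subgroup L)
    (hKc : K ≤ centralizer ({x} : Set L)) (hK24 : Nat.card K = 24) (e : K ≃* Equiv.Perm (Fin 4)) :
    (∀ y : L, y ∈ K ↔ y ∈ centralizer ({x} : Set L) ∧ ¬ 13 ∣ orderOf y) ∧
      ∀ χ : IrrCharacter L, ((χ : L → ℂ) x = 0 ∧ (∀ g : L, 13 ∣ orderOf g → (χ : L → ℂ) g = 0) ∧
          ∃ k : ℕ, (χ : L → ℂ) 1 = (13 : ℕ) * k) ∨
        ∃ (φ : Equiv.Perm (Fin 4) → ℂ) (δ : ℤ), IsIrrCharacter (Equiv.Perm (Fin 4)) φ ∧ (δ = 1 ∨ δ = -1) ∧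
          ∀ k : K, (χ : L → ℂ) (x * k) = δ * φ (e k) := by
  classical
  have hp : Fact (Nat.Prime 13) := ⟨by norm_num⟩
  have h13 : ¬ 13 ^ 2 ∣ Nat.card L := by rw [hL]; norm_num
  have hCx : centralizer ({x} : Set L) = centralizer (zpowers x : Set L) := by
    rw [zpowers_eq_closure, centralizer_closure]
  -- the Sylow subgroup
  have hidx : ¬ 13 ∣ (zpowers x).index := by
    intro h
    apply h13
    rw [← (zpowers x).card_mul_index, Nat.card_zpowers, hx, pow_two]
    exact Nat.mul_dvd_mul_left 13 h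
  have hpg : IsPGroup 13 (zpowers x) := IsPGroup.of_card (n := 1) (by rw [Nat.card_zpowers, hx, pow_one])
  let P : Sylow 13 L := hpg.toSylow hidx
  have hPx : (P : Subgroup L) = zpowers x := rfl
  have hP : Nat.card P = 13 := by
    show Nat.card (zpowers x) = 13
    rw [Nat.card_zpowers, hx]
  -- `C(P) = P × K`
  have hKP : K ≤ centralizer ((P : Subgroup L) : Set L) := by rw [hPx, ← hCx]; exact hKc
  have hdisj : Disjoint (zpowers x) K := by
    apply Subgroup.disjoint_of_coprime_natCard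
    rw [Nat.card_zpowers, hx, hK24]
    norm_num
  have hcov : ∀ g ∈ centralizer ((P : Subgroup L) : Set L), ∃ y ∈ (P : Subgroup L), ∃ k ∈ K, g = y * k := by
    have hmem : ∀ y : zpowers x × K, (y.1 : L) * y.2 ∈ centralizer ({x} : Set L) := fun y =>
      mul_mem (by
        obtain ⟨j, hj⟩ := mem_zpowers_iff.1 y.1.2
        rw [mem_centralizer_singleton_iff, ← hj]
        exact (Commute.zpow_left (Commute.refl x) j).eq) (hKc y.2.2)
    let f : zpowers x × K → centralizer ({x} : Set L) := fun y => ⟨(y.1 : L) * y.2, hmem y⟩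
    have hf : Function.Injective f := fun y y' h =>
      Subgroup.mul_injective_of_disjoint hdisj (congrArg Subtype.val h)
    have hcardf : Nat.card (zpowers x × K) = Nat.card (centralizer ({x} : Set L)) := by
      rw [Nat.card_prod, Nat.card_zpowers, hx, hK24, hc]
    have hfb : Function.Bijective f := (Nat.bijective_iff_injective_and_card f).2 ⟨hf, hcardf⟩
    intro g hg
    rw [hPx, ← hCx] at hg
    obtain ⟨y, hy⟩ := hfb.2 ⟨g, hg⟩
    exact ⟨y.1, y.1.2, y.2, y.2.2, (congrArg Subtype.val hy).symm⟩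
  have hcomp : IsComp 13 (P : Subgroup L) K := Cfsg.Agent.H676.Deg.isComp_of hP hKP (by rw [hK24]; norm_num) hcov
  -- the inertial index
  have he : (centralizer ((P : Subgroup L) : Set L)).relIndex (normalizer ((P : Subgroup L) : Set L)) = 13 - 1 := by
    obtain ⟨f, hf, h1, h2⟩ := Cfsg.Agent.H954.DR.CentB.arith hp.out h13 hx
    have h3 := Subgroup.relIndex_mul_relIndex ⊥ (centralizer (zpowers x : Set L)) (normalizer (zpowers x : Set L)) bot_le
      (centralizer_le_normalizer _)
    rw [relIndex_bot_left, relIndex_bot_left, ← hCx, ← h1] at h3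
    have h4 := Nat.eq_of_mul_eq_mul_left Nat.card_pos h3
    rw [hPx, ← hCx, h4]
    rw [hc, hL] at h2
    have h5 : f ∣ 12 := hf
    have h6 : f ≤ 12 := Nat.le_of_dvd (by norm_num) h5
    interval_cases f <;> first | rfl | (exfalso; revert h2; norm_num)
  -- the normalizer acts by inner automorphisms
  have hI : Cfsg.Agent.H676.Deg.Inn P K := by
    intro n hn
    have hnK : ∀ k, k ∈ K ↔ n * k * n⁻¹ ∈ K := by
      intro k
      rw [hcomp, hcomp]
      have h1 : orderOf (n * k * n⁻¹) = orderOf k := (MulAut.conj n).orderOf_eq k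
      have h2 : ∀ y : L, y ∈ (P : Subgroup L) ↔ n * y * n⁻¹ ∈ (P : Subgroup L) := mem_normalizer_iff.1 hn
      rw [h1]
      refine and_congr_left fun _ => ?_
      rw [mem_centralizer_iff, mem_centralizer_iff]
      constructor
      · intro h y hy
        have h3 : n⁻¹ * y * n ∈ (P : Subgroup L) := (h2 _).2 (by
          have h4 : n * (n⁻¹ * y * n) * n⁻¹ = y := by group
          rw [h4]; exact hy)
        have h4 := h _ h3
        calc y * (n * k * n⁻¹) = n * ((n⁻¹ * y * n) * k) * n⁻¹ := by group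
          _ = n * (k * (n⁻¹ * y * n)) * n⁻¹ := by rw [h4]
          _ = n * k * n⁻¹ * y := by group
      · intro h y hy
        have h3 := h _ ((h2 y).1 hy)
        calc y * k = n⁻¹ * ((n * y * n⁻¹) * (n * k * n⁻¹)) * n := by group
          _ = n⁻¹ * ((n * k * n⁻¹) * (n * y * n⁻¹)) * n := by rw [h3]
          _ = k * y := by group
    let θ : K ≃* K :=
      { toFun := fun k => ⟨n * k * n⁻¹, (hnK k).1 k.2⟩
        invFun := fun k => ⟨n⁻¹ * k * n, (hnK _).2 (by
          have h1 : n * (n⁻¹ * (k : L) * n) * n⁻¹ = k := by group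
          rw [h1]; exact k.2)⟩
        left_inv := fun k => Subtype.ext (by simp [mul_assoc])
        right_inv := fun k => Subtype.ext (by simp [mul_assoc])
        map_mul' := fun k l => Subtype.ext (by simp [mul_assoc]) }
    obtain ⟨σ, hσ⟩ := inner_S4 ((e.symm.trans θ).trans e)
    refine ⟨e.symm σ, (e.symm σ).2, fun k hk => ?_⟩
    have h1 := hσ (e ⟨k, hk⟩)
    have h2 : ((e.symm.trans θ).trans e) (e ⟨k, hk⟩) = e (θ ⟨k, hk⟩) := by simp
    rw [h2] at h1
    have h3 : θ ⟨k, hk⟩ = e.symm σ * ⟨k, hk⟩ * (e.symm σ)⁻¹ := by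
      apply e.injective
      rw [h1]
      simp
    exact congrArg Subtype.val h3
  -- the values
  have hxP : x ∈ (P : Subgroup L) := mem_zpowers x
  have hx1 : x ≠ 1 := by
    rintro rfl
    rw [orderOf_one] at hx
    norm_num at hx
  refine ⟨fun y => ?_, fun χ => ?_⟩
  · rw [hcomp y, hPx, ← hCx]
  rcases Cfsg.Agent.H676.Deg.val hcomp hP he hI χ with ⟨h1, h2⟩ | ⟨φ, δ, hδ, h1, -⟩
  · left
    exact ⟨h1 x (by rw [hx]), h1, h2⟩
  · right
    refine ⟨(φ : K → ℂ) ∘ e.symm.toMonoidHom, δ, isIrr_comp e.symm.toMonoidHom e.symm.surjective φ.2, hδ, fun k => ?_⟩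
    rw [h1 ⟨x, hxP⟩ (fun h => hx1 (congrArg Subtype.val h)) k, Function.comp_apply]
    show (δ : ℂ) * (φ : K → ℂ) k = δ * (φ : K → ℂ) (e.symm (e k))
    rw [e.symm_apply_apply]

end Cfsg.Agent.H712.LD
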